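import Mathlib
import Cfsg.Agent.H29.Fi24T.T

set_option autoImplicit false
set_option maxRecDepth 100000
set_option Elab.async false
set_option linter.all false

namespace H29.Fi24T

theorem iv0 : chkIvP 306936 19 (nth Net.nil nl) (ivOf ivl) 12 0 = true := by decide +kernel

theorem iv1 : chkIvP 306936 19 (nth Net.nil nl) (ivOf ivl) 12 1 = true := by decide +kernel

theorem iv2 : chkIvP 306936 19 (nth Net.nil nl) (ivOf ivl) 12 2 = true := by decide +kernel

theorem iv3 : chkIvP 306936 19 (nth Net.nil nl) (ivOf ivl) 12 3 = true := by decide +kernel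

theorem iv4 : chkIvP 306936 19 (nth Net.nil nl) (ivOf ivl) 12 4 = true := by decide +kernel

theorem iv5 : chkIvP 306936 19 (nth Net.nil nl) (ivOf ivl) 12 5 = true := by decide +kernel

theorem iv6 : chkIvP 306936 19 (nth Net.nil nl) (ivOf ivl) 12 6 = true := by decide +kernel

theorem iv7 : chkIvP 306936 19 (nth Net.nil nl) (ivOf ivl) 12 7 = true := by decide +kernel

theorem iv8 : chkIvP 306936 19 (nth Net.nil nl) (ivOf ivl) 12 8 = true := by decide +kernel

theorem iv9 : chkIvP 306936 19 (nth Net.nil nl) (ivOf ivl) 12 9 = true := by decide +kernel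

theorem iv10 : chkIvP 306936 19 (nth Net.nil nl) (ivOf ivl) 12 10 = true := by decide +kernel

theorem iv11 : chkIvP 306936 19 (nth Net.nil nl) (ivOf ivl) 12 11 = true := by decide +kernel

theorem iv12 : chkIvP 306936 19 (nth Net.nil nl) (ivOf ivl) 12 12 = true := by decide +kernel

theorem iv13 : chkIvP 306936 19 (nth Net.nil nl) (ivOf ivl) 12 13 = true := by decide +kernel

theorem iv14 : chkIvP 306936 19 (nth Net.nil nl) (ivOf ivl) 12 14 = true := by decide +kernel

theorem iv15 : chkIvP 306936 19 (nth Net.nil nl) (ivOf ivl) 12 15 = true := by decide +kernel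

theorem iv16 : chkIvP 306936 19 (nth Net.nil nl) (ivOf ivl) 12 16 = true := by decide +kernel

theorem iv17 : chkIvP 306936 19 (nth Net.nil nl) (ivOf ivl) 12 17 = true := by decide +kernel

theorem iv18 : chkIvP 306936 19 (nth Net.nil nl) (ivOf ivl) 12 18 = true := by decide +kernel

end H29.Fi24T
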