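import Mathlib
import Cfsg.Agent.H29.Fi24T.T
import Cfsg.Agent.H29.Fi24T.I0

set_option autoImplicit false
set_option maxRecDepth 100000
set_option Elab.async false
set_option linter.all false

namespace H29.Fi24T

theorem hiv : IvOK (sg (nth Net.nil nl)) (ivOf ivl) :=
  ivOK_of_chk (k := 19) hn (by decide) (n := 12) (by decide) (by decide) (lt_step (lt_step (lt_step (lt_step (lt_step (lt_step (lt_step (lt_step (lt_step (lt_step (lt_step (lt_step (lt_step (lt_step (lt_step (lt_step (lt_step (lt_step (lt_step lt_base iv0) iv1) iv2) iv3) iv4) iv5) iv6) iv7) iv8) iv9) iv10) iv11) iv12) iv13) iv14) iv15) iv16) iv17) iv18)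
theorem hb : T.Basic := TCData.basic_of_chk hn hiv (by decide +kernel)

end H29.Fi24T
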