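import Mathlib
import Cfsg.Agent.H29.Fi24T.B

set_option autoImplicit false
set_option maxRecDepth 100000
set_option Elab.async false
set_option linter.all false

namespace H29.Fi24T

theorem r0_0 : chkRelP 306936 19 (nth Net.nil nl) (ivOf ivl) G0 0 = true := by decide +kernel

theorem r0_1 : chkRelP 306936 19 (nth Net.nil nl) (ivOf ivl) G0 1 = true := by decide +kernel

theorem r0_2 : chkRelP 306936 19 (nth Net.nil nl) (ivOf ivl) G0 2 = true := by decide +kernel

theorem r0_3 : chkRelP 306936 19 (nth Net.nil nl) (ivOf ivl) G0 3 = true := by decide +kernel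

theorem r0_4 : chkRelP 306936 19 (nth Net.nil nl) (ivOf ivl) G0 4 = true := by decide +kernel

theorem r0_5 : chkRelP 306936 19 (nth Net.nil nl) (ivOf ivl) G0 5 = true := by decide +kernel

end H29.Fi24T
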