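import Mathlib
import Cfsg.Agent.H29.Fi24T.B

set_option autoImplicit false
set_option maxRecDepth 100000
set_option Elab.async false
set_option linter.all false

namespace H29.Fi24T

theorem r3_9 : chkRelP 306936 19 (nth Net.nil nl) (ivOf ivl) G3 9 = true := by decide +kernel

theorem r3_10 : chkRelP 306936 19 (nth Net.nil nl) (ivOf ivl) G3 10 = true := by decide +kernel

theorem r3_11 : chkRelP 306936 19 (nth Net.nil nl) (ivOf ivl) G3 11 = true := by decide +kernel

end H29.Fi24T
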