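import Mathlib
import Cfsg.Agent.H29.Fi24T.B

set_option autoImplicit false
set_option maxRecDepth 100000
set_option Elab.async false
set_option linter.all false

namespace H29.Fi24T

theorem r1_11 : chkRelP 306936 19 (nth Net.nil nl) (ivOf ivl) G1 11 = true := by decide +kernel

theorem r1_12 : chkRelP 306936 19 (nth Net.nil nl) (ivOf ivl) G1 12 = true := by decide +kernel

theorem r1_13 : chkRelP 306936 19 (nth Net.nil nl) (ivOf ivl) G1 13 = true := by decide +kernel

theorem r1_14 : chkRelP 306936 19 (nth Net.nil nl) (ivOf ivl) G1 14 = true := by decide +kernel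

theorem r1_15 : chkRelP 306936 19 (nth Net.nil nl) (ivOf ivl) G1 15 = true := by decide +kernel

theorem r1_16 : chkRelP 306936 19 (nth Net.nil nl) (ivOf ivl) G1 16 = true := by decide +kernel

end H29.Fi24T
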