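import Mathlib
import Cfsg.Agent.H29.Fi24T.R

set_option autoImplicit false
set_option maxRecDepth 100000
set_option Elab.async false
set_option linter.all false

namespace H29.Fi24T

noncomputable def pr0 : List (ℕ × ℕ) := [(121, (nat_lit 0x700000400000100000700000100001000000a0000070000b50000070000020000080000110000210000320000410000100000080000000000380000280000200000180000100000510000610000710000200000180000100000080000000000380000280000200000180000100000080000000000380000280000200000180000100000080000000000380000280000200000180000100000080000000000380000280000200000180000100000080000000000380000280000200000180000100000080000000000810000580000380000280000070000180000100000180000010000070000ad00000700001800000100000000000700001500000700003800001800003800000100000700010d0000070000280000010000070000fd0000070000200000180000200000010000070000f5000007000028000001000008000007000075000007000001000000000007000025000007000038000001000007000175000007000215))]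
theorem p0 : chkProg 4 (ivOf ivl) R0 pr0 [(0, w0)] = true := by decide +kernel

end H29.Fi24T
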